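import Mathlib
import Groth.Prelude.Def_NonAbH1

/-!
# The boundary of a section of a quotient sheaf of cosets

Elementary facts about `GSheaf.IsFibreOver`: existence of the fibre, its torsor property, morphisms
between fibres, and the comparison with change of structure group.
-/

set_option autoImplicit false

universe w v u

open CategoryTheory Opposite NonAbH1

namespace Groth.Agent.BoundaryLib

variable {C : Type u} [Category.{v} C] {J : GrothendieckTopology C}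

theorem glue (P : Sheaf J (Type w)) {T : C} (S : Sieve T) (hS : S ∈ J T)
    (x : ∀ ⦃V : C⦄ (g : V ⟶ T), S g → P.obj.obj (op V))
    (hx : ∀ ⦃V W : C⦄ (φ : W ⟶ V) (g : V ⟶ T) (hg : S g), P.obj.map φ.op (x g hg) = x (φ ≫ g) (S.downward_closed hg φ)) :
    ∃ y : P.obj.obj (op T), ∀ ⦃V : C⦄ (g : V ⟶ T) (hg : S g), P.obj.map g.op y = x g hg := by
  obtain ⟨y, hy, -⟩ := (isSheaf_iff_isSheaf_of_type _ _).1 P.property S hS (fun V g hg => x g hg)
    ((Presieve.compatible_iff_sieveCompatible _).2 fun V W g φ hg => (hx φ g hg).symm)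
  exact ⟨y, fun V g hg => hy g hg⟩

theorem sep (P : Sheaf J (Type w)) {T : C} (S : Sieve T) (hS : S ∈ J T) {a b : P.obj.obj (op T)}
    (h : ∀ ⦃V : C⦄ (g : V ⟶ T), S g → P.obj.map g.op a = P.obj.map g.op b) : a = b :=
  (((isSheaf_iff_isSheaf_of_type _ _).1 P.property).isSeparated S hS).ext fun V g hg => h g hg

variable [J.HasSheafCompose (forget GrpCat.{w})] {F G : Sheaf J GrpCat.{w}} {u : F ⟶ G} {Q : GSheaf G} {π : GSheaf.trivial G ⟶ Q}

/-- The map `π` on group elements. -/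
abbrev pr (π : GSheaf.trivial G ⟶ Q) {U : Cᵒᵖ} (g : G.obj.obj U) : Q.P.obj.obj U := π.hom.hom.app U (GSheaf.ofGrp g)

theorem pr_mul {U : Cᵒᵖ} (h g : G.obj.obj U) : pr π (h * g) = Q.smul h (pr π g) := π.map_smul h (GSheaf.ofGrp g)

theorem pr_map {U V : Cᵒᵖ} (f : U ⟶ V) (g : G.obj.obj U) : pr π (G.obj.map f g) = Q.P.obj.map f (pr π g) :=
  NatTrans.naturality_apply π.hom.hom f (GSheaf.ofGrp g)

theorem pr_mul_right (hQ : GSheaf.IsQuotientBy u π) {U : Cᵒᵖ} (g : G.obj.obj U) (f : F.obj.obj U) :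
    pr π (g * u.hom.app U f) = pr π g := ((hQ.1 U g _).2 ⟨f, rfl⟩).symm

theorem u_map {U V : Cᵒᵖ} (f : U ⟶ V) (a : F.obj.obj U) : u.hom.app V (F.obj.map f a) = G.obj.map f (u.hom.app U a) :=
  NatTrans.naturality_apply u.hom f a

theorem ι_map {T : GSheaf F} (ι : T.P ⟶ GSheaf.uSh G) {U V : Cᵒᵖ} (f : U ⟶ V) (t : T.P.obj.obj U) :
    GSheaf.toGrp (ι.hom.app V (T.P.obj.map f t)) = G.obj.map f (GSheaf.toGrp (ι.hom.app U t)) :=
  NatTrans.naturality_apply ι.hom f t

theorem isTorsor_of_isFibreOver (hu : ∀ U, Function.Injective (u.hom.app U)) (hQ : GSheaf.IsQuotientBy u π)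
    {c : Q.P.obj.sections} {T : GSheaf F} (hT : GSheaf.IsFibreOver u π c T) : T.IsTorsor := by
  obtain ⟨ι, hinj, hmem, hsmul⟩ := hT
  refine ⟨fun U p q => ?_, fun U => ?_⟩
  · have hp := (hmem U _).1 ⟨p, rfl⟩
    have hq := (hmem U _).1 ⟨q, rfl⟩
    obtain ⟨f, hf⟩ := (hQ.1 U _ _).1 (hp.trans hq.symm)
    refine ⟨f⁻¹, hinj U ?_, fun f' hf' => hu U ?_⟩
    · show GSheaf.toGrp (ι.hom.app U (T.smul f⁻¹ p)) = GSheaf.toGrp (ι.hom.app U q)
      rw [hsmul, map_inv, inv_inv, ← hf]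
    · have h1 := hsmul U f' p
      rw [show T.smul f' p = q from hf', hf] at h1
      rw [map_inv, mul_left_cancel h1, inv_inv]
  · obtain ⟨S, hS, h⟩ := hQ.2 U (c.1 (op U))
    exact ⟨S, hS, fun V a ha => by
      obtain ⟨g, hg⟩ := h a ha
      obtain ⟨t, -⟩ := (hmem (op V) g).2 (hg.trans (c.2 a.op))
      exact ⟨t⟩⟩

/-- The fibre of `π` over a global section. -/
noncomputable def fibrePre (π : GSheaf.trivial G ⟶ Q) (c : Q.P.obj.sections) : Cᵒᵖ ⥤ Type w where
  obj U := {g : G.obj.obj U // pr π g = c.1 U}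
  map {U V} f := TypeCat.ofHom fun g => ⟨G.obj.map f g.1, by rw [pr_map, g.2, c.2 f]⟩
  map_id U := by
    refine ConcreteCategory.hom_ext _ _ fun g => Subtype.ext ?_
    show G.obj.map (𝟙 U) g.1 = g.1
    rw [G.obj.map_id]
    rfl
  map_comp {U V W} f g := by
    refine ConcreteCategory.hom_ext _ _ fun x => Subtype.ext ?_
    show G.obj.map (f ≫ g) x.1 = G.obj.map g (G.obj.map f x.1)
    rw [G.obj.map_comp]
    rfl

theorem fibrePre_isSheaf (c : Q.P.obj.sections) : Presieve.IsSheaf J (fibrePre π c) := by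
  intro T S hS x hx
  obtain ⟨y, hy⟩ := glue (GSheaf.uSh G) S hS (fun V g hg => GSheaf.ofGrp (x g hg).1) fun V W φ g hg =>
    (congrArg Subtype.val ((Presieve.compatible_iff_sieveCompatible x).1 hx g φ hg)).symm
  have hmem : pr π (GSheaf.toGrp y) = c.1 (op T) := sep Q.P S hS fun V g hg => by
    rw [← pr_map, show G.obj.map g.op (GSheaf.toGrp y) = (x g hg).1 from hy g hg, (x g hg).2, c.2 g.op]
  refine ⟨⟨GSheaf.toGrp y, hmem⟩, fun V g hg => Subtype.ext (hy g hg), fun t ht => Subtype.ext ?_⟩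
  exact sep (GSheaf.uSh G) S hS fun V g hg => (congrArg Subtype.val (ht g hg)).trans (hy g hg).symm

theorem exists_fibre (hu : ∀ U, Function.Injective (u.hom.app U)) (hQ : GSheaf.IsQuotientBy u π) (c : Q.P.obj.sections) :
    ∃ T : Torsor F, GSheaf.IsFibreOver u π c T.toGSheaf := by
  let T : GSheaf F :=
    { P := ⟨fibrePre π c, (isSheaf_iff_isSheaf_of_type _ _).2 (fibrePre_isSheaf c)⟩
      smul := fun {U} f g => ⟨g.1 * (u.hom.app U f)⁻¹, by rw [← map_inv, pr_mul_right hQ, g.2]⟩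
      one_smul := fun g => Subtype.ext (by
        show g.1 * _ = g.1
        rw [map_one, inv_one, mul_one])
      mul_smul := fun a b g => Subtype.ext (by
        show g.1 * _ = g.1 * _ * _
        rw [map_mul, mul_inv_rev, mul_assoc])
      map_smul := fun f a g => Subtype.ext (by
        show G.obj.map f (g.1 * _) = G.obj.map f g.1 * _
        rw [map_mul, map_inv, u_map]) }
  let ι : T.P ⟶ GSheaf.uSh G := ⟨{ app := fun U => TypeCat.ofHom fun g => GSheaf.ofGrp g.1, naturality := fun U V f => rfl }⟩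
  have h : GSheaf.IsFibreOver u π c T :=
    ⟨ι, fun U a b hab => Subtype.ext hab, fun U g => ⟨fun ⟨t, ht⟩ => ht ▸ t.2, fun hg => ⟨⟨g, hg⟩, rfl⟩⟩, fun U f t => rfl⟩
  exact ⟨⟨T, isTorsor_of_isFibreOver hu hQ h⟩, h⟩

/-- Left translation by a global section maps fibres to fibres. -/
theorem exists_fibreHom {c c' : Q.P.obj.sections} {T T' : GSheaf F} (hT : GSheaf.IsFibreOver u π c T)
    (hT' : GSheaf.IsFibreOver u π c' T') (g : (GSheaf.uSh G).obj.sections)
    (hg : ∀ U, Q.smul (GSheaf.toGrp (g.1 U)) (c.1 U) = c'.1 U) :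
    ∃ φ : T ⟶ T', ∀ U t, GSheaf.toGrp (hT'.choose.hom.app U (φ.hom.hom.app U t)) = GSheaf.toGrp (g.1 U) * GSheaf.toGrp (hT.choose.hom.app U t) := by
  obtain ⟨hinj, hmem, hsmul⟩ := hT.choose_spec
  obtain ⟨hinj', hmem', hsmul'⟩ := hT'.choose_spec
  choose f hf using fun (U : Cᵒᵖ) (t : T.P.obj.obj U) => (hmem' U (GSheaf.toGrp (g.1 U) * GSheaf.toGrp (hT.choose.hom.app U t))).2
    (by rw [← hg U, ← (hmem U _).1 ⟨t, rfl⟩]; exact pr_mul _ _)
  let n : T.P.obj ⟶ T'.P.obj :=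
    { app := fun U => TypeCat.ofHom (f U)
      naturality := fun U V a => by
        refine ConcreteCategory.hom_ext _ _ fun t => hinj' V ?_
        show GSheaf.toGrp (hT'.choose.hom.app V (f V (T.P.obj.map a t))) = GSheaf.toGrp (hT'.choose.hom.app V (T'.P.obj.map a (f U t)))
        rw [hf, ι_map, ι_map, hf, map_mul]
        exact congrArg (· * _) (g.2 a).symm }
  refine ⟨⟨⟨n⟩, fun {U} a t => hinj' U ?_⟩, hf⟩
  show GSheaf.toGrp (hT'.choose.hom.app U (f U (T.smul a t))) = GSheaf.toGrp (hT'.choose.hom.app U (T'.smul a (f U t)))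
  rw [hf, hsmul', hf, hsmul, mul_assoc]

theorem nonempty_iso_of_smul {c c' : Q.P.obj.sections} {T T' : GSheaf F} (hT : GSheaf.IsFibreOver u π c T)
    (hT' : GSheaf.IsFibreOver u π c' T') (g : (GSheaf.uSh G).obj.sections)
    (hg : ∀ U, Q.smul (GSheaf.toGrp (g.1 U)) (c.1 U) = c'.1 U) : Nonempty (T ≅ T') := by
  let g' : (GSheaf.uSh G).obj.sections := ⟨fun U => GSheaf.ofGrp (GSheaf.toGrp (g.1 U))⁻¹, fun {U V} a => by
    show G.obj.map a (GSheaf.toGrp (g.1 U))⁻¹ = (GSheaf.toGrp (g.1 V))⁻¹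
    rw [map_inv]
    exact congrArg (·⁻¹) (g.2 a)⟩
  obtain ⟨φ, hφ⟩ := exists_fibreHom hT hT' g hg
  obtain ⟨ψ, hψ⟩ := exists_fibreHom hT' hT g' fun U => by
    show Q.smul (GSheaf.toGrp (g.1 U))⁻¹ (c'.1 U) = c.1 U
    rw [← hg U, ← Q.mul_smul, inv_mul_cancel, Q.one_smul]
  refine ⟨⟨φ, ψ, ?_, ?_⟩⟩
  · refine GSheaf.hom_ext (Sheaf.hom_ext (NatTrans.ext (funext fun U => ConcreteCategory.hom_ext _ _ fun t => hT.choose_spec.1 U ?_)))
    show GSheaf.toGrp (hT.choose.hom.app U (ψ.hom.hom.app U (φ.hom.hom.app U t))) = GSheaf.toGrp (hT.choose.hom.app U t)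
    rw [hψ, hφ]
    show (GSheaf.toGrp (g.1 U))⁻¹ * _ = _
    rw [inv_mul_cancel_left]
  · refine GSheaf.hom_ext (Sheaf.hom_ext (NatTrans.ext (funext fun U => ConcreteCategory.hom_ext _ _ fun t => hT'.choose_spec.1 U ?_)))
    show GSheaf.toGrp (hT'.choose.hom.app U (φ.hom.hom.app U (ψ.hom.hom.app U t))) = GSheaf.toGrp (hT'.choose.hom.app U t)
    rw [hφ, hψ]
    exact mul_inv_cancel_left _ _

theorem exists_smul_of_iso (hu : ∀ U, Function.Injective (u.hom.app U)) (hQ : GSheaf.IsQuotientBy u π)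
    {c c' : Q.P.obj.sections} {T T' : GSheaf F} (hT : GSheaf.IsFibreOver u π c T)
    (hT' : GSheaf.IsFibreOver u π c' T') (e : T ≅ T') :
    ∃ g : (GSheaf.uSh G).obj.sections, ∀ U, Q.smul (GSheaf.toGrp (g.1 U)) (c.1 U) = c'.1 U := by
  classical
  obtain ⟨hps, hne⟩ := isTorsor_of_isFibreOver hu hQ hT
  obtain ⟨ι, hinj, hmem, hsmul⟩ := hT
  obtain ⟨ι', hinj', hmem', hsmul'⟩ := hT'
  let d : ∀ {U : Cᵒᵖ}, T.P.obj.obj U → G.obj.obj U := fun {U} t =>
    GSheaf.toGrp (ι'.hom.app U (e.hom.hom.hom.app U t)) * (GSheaf.toGrp (ι.hom.app U t))⁻¹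
  have hind : ∀ {U : Cᵒᵖ} (t t' : T.P.obj.obj U), d t = d t' := fun {U} t t' => by
    obtain ⟨a, ha, -⟩ := hps U t t'
    simp only [d]
    rw [← ha, e.hom.map_smul, hsmul', hsmul, mul_inv_rev, inv_inv, mul_assoc, inv_mul_cancel_left]
  have hnat : ∀ {U V : Cᵒᵖ} (a : U ⟶ V) (t : T.P.obj.obj U), G.obj.map a (d t) = d (T.P.obj.map a t) := fun {U V} a t => by
    simp only [d]
    rw [map_mul, map_inv, NatTrans.naturality_apply e.hom.hom.hom a t, ι_map, ι_map]
  choose S hS hSne using hne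
  have hglue : ∀ U : C, ∃ y : G.obj.obj (op U), ∀ ⦃V : C⦄ (a : V ⟶ U) (t : T.P.obj.obj (op V)), G.obj.map a.op y = d t := by
    intro U
    obtain ⟨y, hy⟩ := glue (GSheaf.uSh G) (S U) (hS U) (fun V a ha => GSheaf.ofGrp (d (hSne U a ha).some))
      fun V W φ a ha => (hnat φ.op _).trans (hind _ _)
    refine ⟨GSheaf.toGrp y, fun V a t => ?_⟩
    refine sep (GSheaf.uSh G) _ (J.pullback_stable a (hS U)) fun W b hb => ?_
    show G.obj.map b.op (G.obj.map a.op (GSheaf.toGrp y)) = G.obj.map b.op (d t)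
    rw [← ConcreteCategory.comp_apply, ← Functor.map_comp, ← op_comp, hnat]
    exact (hy (b ≫ a) hb).trans (hind _ _)
  choose y hy using hglue
  refine ⟨⟨fun U => GSheaf.ofGrp (y U.unop), fun {U V} a => ?_⟩, fun U => ?_⟩
  · refine sep (GSheaf.uSh G) (S V.unop) (hS _) fun W b hb => ?_
    show G.obj.map b.op (G.obj.map a (y U.unop)) = G.obj.map b.op (y V.unop)
    rw [hy V.unop b (hSne _ b hb).some, ← hy U.unop (b ≫ a.unop) (hSne _ b hb).some, op_comp, Functor.map_comp]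
    rfl
  · refine sep Q.P (S U.unop) (hS _) fun W b hb => ?_
    obtain ⟨t⟩ := hSne _ b hb
    rw [Q.map_smul, c.2 b.op, c'.2 b.op, ← (hmem (op W) _).1 ⟨t, rfl⟩, ← (hmem' (op W) _).1 ⟨e.hom.hom.hom.app _ t, rfl⟩]
    show Q.smul (G.obj.map b.op (y U.unop)) _ = _
    rw [hy U.unop b t]
    refine (pr_mul _ _).symm.trans ?_
    simp only [d, inv_mul_cancel_right]

theorem isPushforwardAlong_iff (hu : ∀ U, Function.Injective (u.hom.app U)) (hQ : GSheaf.IsQuotientBy u π) (T : Torsor F) :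
    GSheaf.IsPushforwardAlong u T.toGSheaf (GSheaf.trivial G) ↔ ∃ c : Q.P.obj.sections, GSheaf.IsFibreOver u π c T.toGSheaf := by
  classical
  constructor
  · rintro ⟨f, hf⟩
    let ι : T.P ⟶ GSheaf.uSh G :=
      ⟨{ app := fun U => TypeCat.ofHom fun t => GSheaf.ofGrp (GSheaf.toGrp (f.hom.app U t))⁻¹
         naturality := fun U V a => ConcreteCategory.hom_ext _ _ fun t => by
          show (GSheaf.toGrp (f.hom.app V (T.P.obj.map a t)))⁻¹ = G.obj.map a (GSheaf.toGrp (f.hom.app U t))⁻¹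
          rw [map_inv]
          exact congrArg (·⁻¹) (NatTrans.naturality_apply f.hom a t) }⟩
    have hsmul : ∀ (U : Cᵒᵖ) (a : F.obj.obj U) (t : T.P.obj.obj U),
        GSheaf.toGrp (ι.hom.app U (T.smul a t)) = GSheaf.toGrp (ι.hom.app U t) * (u.hom.app U a)⁻¹ := fun U a t => by
      show (GSheaf.toGrp (f.hom.app U (T.smul a t)))⁻¹ = (GSheaf.toGrp (f.hom.app U t))⁻¹ * _
      rw [hf]
      exact mul_inv_rev _ _
    have hinj : ∀ U, Function.Injective (ι.hom.app U) := fun U p q hpq => by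
      obtain ⟨a, ha, -⟩ := T.isTorsor.1 U p q
      have h1 := hsmul U a p
      rw [ha, ← hpq] at h1
      have : a = 1 := hu U (by rw [map_one]; exact inv_eq_one.1 (mul_left_cancel (h1.symm.trans (mul_one _).symm)))
      rw [← ha, this, T.one_smul]
    let d : ∀ {U : Cᵒᵖ}, T.P.obj.obj U → Q.P.obj.obj U := fun {U} t => pr π (GSheaf.toGrp (ι.hom.app U t))
    have hind : ∀ {U : Cᵒᵖ} (t t' : T.P.obj.obj U), d t = d t' := fun {U} t t' => by
      obtain ⟨a, ha, -⟩ := T.isTorsor.1 U t t'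
      simp only [d]
      rw [← ha, hsmul, ← map_inv, pr_mul_right hQ]
    have hnat : ∀ {U V : Cᵒᵖ} (a : U ⟶ V) (t : T.P.obj.obj U), Q.P.obj.map a (d t) = d (T.P.obj.map a t) := fun {U V} a t => by
      simp only [d]
      rw [ι_map, pr_map]
    choose S hS hSne using T.isTorsor.2
    have hglue : ∀ U : C, ∃ y : Q.P.obj.obj (op U), ∀ ⦃V : C⦄ (a : V ⟶ U) (t : T.P.obj.obj (op V)), Q.P.obj.map a.op y = d t := by
      intro U
      obtain ⟨y, hy⟩ := glue Q.P (S U) (hS U) (fun V a ha => d (hSne U a ha).some) fun V W φ a ha => (hnat φ.op _).trans (hind _ _)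
      refine ⟨y, fun V a t => ?_⟩
      refine sep Q.P _ (J.pullback_stable a (hS U)) fun W b hb => ?_
      rw [← ConcreteCategory.comp_apply, ← Functor.map_comp, ← op_comp, hnat]
      exact (hy (b ≫ a) hb).trans (hind _ _)
    choose y hy using hglue
    have hyt : ∀ {U : Cᵒᵖ} (t : T.P.obj.obj U), d t = y U.unop := fun {U} t => by
      have := hy U.unop (𝟙 _) t
      rw [op_id, Q.P.obj.map_id] at this
      exact this.symm
    refine ⟨⟨fun U => y U.unop, fun {U V} a => ?_⟩, ι, hinj, fun U g => ⟨?_, fun hg => ?_⟩, hsmul⟩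
    · refine sep Q.P (S V.unop) (hS _) fun W b hb => ?_
      rw [hy V.unop b (hSne _ b hb).some, ← hy U.unop (b ≫ a.unop) (hSne _ b hb).some, op_comp, Functor.map_comp]
      rfl
    · rintro ⟨t, rfl⟩
      exact hyt t
    · have hloc : ∀ ⦃V : C⦄ (a : V ⟶ U.unop), S U.unop a → ∃ t, GSheaf.toGrp (ι.hom.app (op V) t) = G.obj.map a.op g := by
        intro V a ha
        obtain ⟨t⟩ := hSne _ a ha
        have hgV : pr π (GSheaf.toGrp (ι.hom.app (op V) t)) = pr π (G.obj.map a.op g) := by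
          show d t = _
          rw [pr_map, ← hy U.unop a t]
          exact congrArg (Q.P.obj.map a.op) hg.symm
        obtain ⟨e, he⟩ := (hQ.1 _ _ _).1 hgV
        exact ⟨T.smul e⁻¹ t, by rw [hsmul, map_inv, inv_inv, he]⟩
      choose t ht using hloc
      obtain ⟨t0, ht0⟩ := glue T.P (S U.unop) (hS _) t fun V W φ a ha => hinj _ (by
        show GSheaf.toGrp (ι.hom.app (op W) (T.P.obj.map φ.op (t a ha))) = GSheaf.toGrp (ι.hom.app (op W) _)
        rw [ι_map, ht, ht, op_comp, Functor.map_comp]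
        rfl)
      refine ⟨t0, sep (GSheaf.uSh G) (S U.unop) (hS _) fun V a ha => ?_⟩
      show G.obj.map a.op (GSheaf.toGrp (ι.hom.app U t0)) = G.obj.map a.op g
      refine (ι_map ι a.op t0).symm.trans ?_
      rw [ht0 a ha, ht a ha]
  · rintro ⟨c, ι, -, -, hsmul⟩
    refine ⟨⟨{ app := fun U => TypeCat.ofHom fun t => GSheaf.ofGrp (GSheaf.toGrp (ι.hom.app U t))⁻¹
               naturality := fun U V a => ConcreteCategory.hom_ext _ _ fun t => ?_ }⟩, fun U g p => ?_⟩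
    · show (GSheaf.toGrp (ι.hom.app V (T.P.obj.map a t)))⁻¹ = G.obj.map a (GSheaf.toGrp (ι.hom.app U t))⁻¹
      rw [map_inv, ι_map]
    · show (GSheaf.toGrp (ι.hom.app U (T.smul g p)))⁻¹ = u.hom.app U g * (GSheaf.toGrp (ι.hom.app U p))⁻¹
      rw [hsmul, mul_inv_rev, inv_inv]

end Groth.Agent.BoundaryLib
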